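import Cfsg.Agent.H188.CY.NoRelInst

/-!
# S4829, polar spaces: no perpendicular disjoint pair, the form for `Φ.X d` (helper188)
-/

set_option autoImplicit false

open Module Polynomial

namespace Cfsg.Agent.H188.CY

open Cfsg.Agent.H2.Pol Cfsg.Agent.H646.BR Cfsg.Agent.H674.BR Cfsg.Agent.H31.BR

variable {p : ℕ} [hp : Fact p.Prime] {F V : Type*} {G H : Type*} {S : Type*} [Field F] [Fintype F] [AddCommGroup V]
  [Module F V] [FiniteDimensional F V] [Group G] [Group H] [Group S] {Φ : Pol F V} {ρ : G →* (V ≃ₗ[F] V)} {ι : H →* G}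
  {ρ' : H →* (V ≃ₗ[F] V)} {π : H →* S} {w ε K : ℕ}

omit [Fintype F] [FiniteDimensional F V] in
/-- the sum of perpendicular totally singular subspaces -/
theorem ti_sup {U W : Submodule F V} (hU : Φ.TI U) (hW : Φ.TI W) (h : Φ.Orth U W) : Φ.TI (U ⊔ W) := by
  refine ⟨fun x hx => ?_, (hU.orth.sup_left h.symm).sup_right (h.sup_left hW.orth)⟩
  obtain ⟨u, hu, v, hv, rfl⟩ := Submodule.mem_sup.1 hx
  exact Φ.sing_add u v (hU.1 u hu) (hW.1 v hv) (h u hu v hv)

/-- **no perpendicular disjoint pair** `(U, M U)`, `U` in `Φ.X d` fixed by `Q` -/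
theorem polInst_no_rel [Finite S] [Finite G] (I : PolInst p Φ ρ ι ρ' π w ε K) (hpq : ¬ p ∣ Nat.card F) {d : ℕ}
    (hd : orderOf ((Nat.card F : ℕ) : ZMod p) = d) (hd1 : 1 ≤ d) (Q : Sylow p S) {a : MulAut S}
    (haQ : ∀ x ∈ Q, a x = x) {M : V ≃+ V} (hM : SemiAct Φ M) (hMa : Induces ρ' π M a) (U : Φ.X d)
    (hU : letI := I.model.mulAction d; ∀ g ∈ Q, g • U = U) (hdis : U.1 ⊓ hM.sub U.1 = ⊥)
    (horth : Φ.Orth U.1 (hM.sub U.1)) : False := by
  refine no_rel_inst I hpq hM hMa Q haQ (U := U.1) (d := d) ?_ ?_ (by rw [U.2.2]) ?_ hdis (ti_sup U.2.1 (hM.ti U.2.1) horth)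
  · intro h hh
    let _ := I.model.mulAction d
    have h1 := congrArg Subtype.val (I.model.smul_eq d h U)
    rw [hU _ hh] at h1
    exact h1.symm
  · have h1 : 1 ≤ Nat.card F ^ d := Nat.one_le_pow _ _ Nat.card_pos
    rw [← ZMod.natCast_eq_zero_iff, Nat.cast_sub h1, Nat.cast_pow, Nat.cast_one, ← hd, pow_orderOf_eq_one, sub_self]
  · intro h1
    have h2 := U.2.2
    rw [h1, finrank_bot] at h2
    omega

end Cfsg.Agent.H188.CY
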