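import Cfsg.Agent.H646.BR.LinType

/-!
# S4829, polar spaces: the orbital of perpendicular disjoint pairs (helper188)

`no_rel` : let `P` be a Sylow `p`-subgroup of `G` and `U` a `P`-invariant totally singular subspace of dimension divisible
by `d = ord_p |F|`.  A semilinear `M` commuting with `P` does not map `U` to a subspace `U2` with `U ⊓ U2 = 0` and `U ⊔ U2`
totally singular, unless `U = 0`.
-/

set_option autoImplicit false

open Module Polynomial

namespace Cfsg.Agent.H188.CY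

open Cfsg.Agent.H2.Pol Cfsg.Agent.H646.BR

variable {F V : Type*} [Field F] [Fintype F] [AddCommGroup V] [Module F V] [FiniteDimensional F V] {Φ : Pol F V}
  {G : Type*} [Group G] [Finite G] {ρ : G →* (V ≃ₗ[F] V)} {p : ℕ} [hp : Fact p.Prime] {f : F[X]}

theorem no_rel (hW : WittTS Φ ρ) (hpF : p.Coprime (Fintype.card F)) (hf : Irreducible f) (hfc : f ∣ cyclotomic p F)
    (P : Sylow p G) {M : V ≃+ V} (hMP : ∀ g ∈ P, ∀ v, M (ρ g v) = ρ g (M v)) {U U2 : Submodule F V}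
    (hU2 : ∀ x, x ∈ U2 ↔ ∃ u ∈ U, M u = x) (hPU : ∀ g ∈ P, mv ρ g U = U) (hd : f.natDegree ∣ finrank F U)
    (hne : U ≠ ⊥) (hdis : U ⊓ U2 = ⊥) (hTI : Φ.TI (U ⊔ U2)) : False := by
  set T := U ⊔ U2 with hT
  have hUT : U ≤ T := le_sup_left
  have hUT2 : U2 ≤ T := le_sup_right
  have hmU : ∀ g ∈ P, ∀ x ∈ U, ρ g x ∈ U := fun g hg x hx => by
    have h1 : ρ g x ∈ mv ρ g U := mem_mv_of_mem hx
    rwa [hPU g hg] at h1
  have hmU2 : ∀ g ∈ P, ∀ x ∈ U2, ρ g x ∈ U2 := fun g hg x hx => by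
    obtain ⟨u, hu, rfl⟩ := (hU2 x).1 hx
    rw [← hMP g hg]
    exact (hU2 _).2 ⟨ρ g u, hmU g hg u hu, rfl⟩
  have hPT : ∀ g ∈ P, mv ρ g T = T := by
    intro g hg
    apply mv_eq_of_le
    rintro _ ⟨x, hx, rfl⟩
    obtain ⟨u, hu, w, hw, rfl⟩ := Submodule.mem_sup.1 hx
    change ρ g (u + w) ∈ T
    rw [map_add]
    exact Submodule.add_mem_sup (hmU g hg u hu) (hmU2 g hg w hw)
  have hUC : IsCompl (U.comap T.subtype) (U2.comap T.subtype) := by
    constructor
    · rw [disjoint_iff, eq_bot_iff]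
      rintro x ⟨hx1, hx2⟩
      rw [Submodule.mem_bot]
      apply Subtype.ext
      have h1 : (x : V) ∈ U ⊓ U2 := ⟨hx1, hx2⟩
      rw [hdis] at h1
      exact (Submodule.mem_bot F).1 h1
    · rw [codisjoint_iff, eq_top_iff]
      rintro x -
      obtain ⟨u, hu, w, hw, huw⟩ := Submodule.mem_sup.1 x.2
      rw [show x = (⟨u, hUT hu⟩ : T) + ⟨w, hUT2 hw⟩ from Subtype.ext huw.symm]
      exact Submodule.add_mem_sup hu hw
  have hfr : finrank F (U.comap T.subtype) = finrank F U := (Submodule.comapSubtypeEquivOfLe hUT).finrank_eq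
  obtain ⟨y, hyQ, hy1, hy2, hy3⟩ := exists_y hpF hf hfc (sylT hW P hTI hPT) hUC
    (by
      intro g hg x hx
      obtain ⟨a, ha, hax⟩ := exists_of_mem_sylT hW P hTI hPT hg
      change ((g x : T) : V) ∈ U
      rw [← hax]
      exact hmU a ha _ hx)
    (by
      intro g hg x hx
      obtain ⟨a, ha, hax⟩ := exists_of_mem_sylT hW P hTI hPT hg
      change ((g x : T) : V) ∈ U2
      rw [← hax]
      exact hmU2 a ha _ hx)
    (by rw [hfr]; exact hd)
  obtain ⟨g, hg, hgy⟩ := exists_of_mem_sylT hW P hTI hPT hyQ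
  apply hne
  rw [eq_bot_iff]
  intro u hu
  rw [Submodule.mem_bot]
  have h1 : M u ∈ U2 := (hU2 _).2 ⟨u, hu, rfl⟩
  have h2 : ρ g (M u) = M u := by
    have h3 := hy1 ⟨M u, hUT2 h1⟩ h1
    have h4 := hgy ⟨M u, hUT2 h1⟩
    rw [h3] at h4
    exact h4
  rw [← hMP g hg] at h2
  have h3 : ρ g u = u := M.injective h2
  have h4 := hy3 ⟨u, hUT hu⟩ hu (Subtype.ext ((hgy ⟨u, hUT hu⟩).symm.trans h3))
  exact congrArg Subtype.val h4

end Cfsg.Agent.H188.CY
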