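import Cfsg.Agent.H188.CY.NoRel
import Cfsg.Agent.H646.BR.CntGen
import Cfsg.Agent.H31.BR.PolInst

/-!
# S4829, polar spaces: no perpendicular disjoint pair `(U, a U)` (helper188)

`comm_of_induces` : a semilinear `M` inducing an automorphism which centralizes the Sylow subgroup `Q` of `S` commutes with
the Sylow subgroup of `G` above `Q`.
`no_rel_inst` : `no_rel` on `PolInst`.
-/

set_option autoImplicit false

open Module Polynomial

namespace Cfsg.Agent.H188.CY

open Cfsg.Agent.H2.Pol Cfsg.Agent.H646.BR Cfsg.Agent.H674.BR Cfsg.Agent.H31.BR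

/-- a `p`-element fixed modulo a central kernel of order prime to `p` -/
theorem comm_of_induces {F V H S : Type*} [Field F] [AddCommGroup V] [Module F V] [Group H] [Finite H] [Group S]
    {p : ℕ} [hp : Fact p.Prime] {ρ' : H →* (V ≃ₗ[F] V)} {π : H →* S} (hker : π.ker ≤ Subgroup.center H)
    (hkp : ¬ p ∣ Nat.card π.ker) {M : V ≃+ V} {a : MulAut S} (hind : Induces ρ' π M a) {g : H} {k : ℕ}
    (hg : g ^ p ^ k = 1) (ha : a (π g) = π g) (v : V) : M (ρ' g v) = ρ' g (M v) := by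
  obtain ⟨g', hg', hM⟩ := hind g
  rw [ha] at hg'
  set z : H := g⁻¹ * g' with hz
  have hzk : z ∈ π.ker := by rw [MonoidHom.mem_ker, hz, map_mul, map_inv, hg', inv_mul_cancel]
  have hgz : g' = g * z := by rw [hz, mul_inv_cancel_left]
  have hzc : ∀ x : H, x * z = z * x := fun x => Subgroup.mem_center_iff.1 (hker hzk) x
  -- the power of `g'` acts trivially
  have hpow : ∀ (n : ℕ) (v : V), ρ' (g' ^ n) (M v) = M (ρ' (g ^ n) v) := by
    intro n
    induction n with
    | zero => intro v; rw [pow_zero, pow_zero, map_one]; rfl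
    | succ n ih =>
      intro v
      rw [pow_succ, pow_succ, map_mul, map_mul, LinearEquiv.mul_apply, LinearEquiv.mul_apply, hM, ih]
  have h1 : ρ' (g' ^ p ^ k) = 1 := by
    apply LinearEquiv.ext
    intro v
    obtain ⟨v, rfl⟩ := M.surjective v
    rw [hpow, hg, map_one]
    rfl
  have h2 : ρ' z ^ p ^ k = 1 := by
    have h3 : g' ^ p ^ k = z ^ p ^ k := by
      rw [hgz, (show Commute g z from hzc g).mul_pow, hg, one_mul]
    rw [← map_pow, ← h3, h1]
  have h5 : ρ' z ^ Nat.card π.ker = 1 := by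
    have h6 : z ^ Nat.card π.ker = 1 := congrArg Subtype.val (pow_card_eq_one' (x := (⟨z, hzk⟩ : π.ker)))
    rw [← map_pow, h6, map_one]
  have hz1 : ρ' z = 1 := by
    have h7 : Nat.Coprime (p ^ k) (Nat.card π.ker) := Nat.Coprime.pow_left k ((Nat.Prime.coprime_iff_not_dvd hp.out).2 hkp)
    have h6 := pow_gcd_eq_one.2 ⟨h2, h5⟩
    rwa [h7, pow_one] at h6
  rw [← hM v, hgz, map_mul, hz1, mul_one]

variable {p : ℕ} [hp : Fact p.Prime] {F V : Type*} {G H : Type*} {S : Type*} [Field F] [Fintype F] [AddCommGroup V]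
  [Module F V] [FiniteDimensional F V] [Group G] [Group H] [Group S] {Φ : Pol F V} {ρ : G →* (V ≃ₗ[F] V)} {ι : H →* G}
  {ρ' : H →* (V ≃ₗ[F] V)} {π : H →* S} {w ε K : ℕ}

/-- **no perpendicular disjoint pair** `(U, M U)` -/
theorem no_rel_inst [Finite S] [Finite G] (I : PolInst p Φ ρ ι ρ' π w ε K) (hpq : ¬ p ∣ Nat.card F) {a : MulAut S}
    {M : V ≃+ V} (hM : SemiAct Φ M) (hind : Induces ρ' π M a) (Q : Sylow p S) (haQ : ∀ x ∈ Q, a x = x)
    {U : Submodule F V} (hQU : ∀ h : H, π h ∈ Q → U.map (ρ' h : V →ₗ[F] V) = U) {d : ℕ}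
    (hd : p ∣ Nat.card F ^ d - 1) (hdU : d ∣ finrank F U) (hne : U ≠ ⊥) (hdis : U ⊓ hM.sub U = ⊥)
    (hTI : Φ.TI (U ⊔ hM.sub U)) : False := by
  have _ : Finite H := Finite.of_injective ι I.inj
  obtain ⟨P1, hP1⟩ := Sylow.mapSurjective_surjective I.model.surj p Q
  obtain ⟨P2, hP2⟩ := exists_sylow_map ι I.inj I.idx P1
  have hQe : (Q : Subgroup S) = (P1 : Subgroup H).map π := by rw [← hP1]; rfl
  rw [Nat.card_eq_fintype_card] at hpq hd
  have hpF' : p.Coprime (Fintype.card F) := (Nat.Prime.coprime_iff_not_dvd hp.out).2 hpq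
  obtain ⟨f, hf, hfc⟩ := exists_irr F p
  have hfd : f.natDegree ∣ finrank F U := by
    refine dvd_trans ?_ hdU
    rw [natDegree_irr hf hfc hpF', orderOf_dvd_iff_pow_eq_one, Units.ext_iff, Units.val_pow_eq_pow_val,
      ZMod.coe_unitOfCoprime, Units.val_one]
    have hpos : 1 ≤ Fintype.card F ^ d := Nat.one_le_pow _ _ Fintype.card_pos
    rw [← Nat.cast_pow, ← Nat.cast_one, eq_comm, ZMod.natCast_eq_natCast_iff]
    exact (Nat.modEq_iff_dvd' hpos).2 hd
  refine no_rel (Φ := Φ) (ρ := ρ) I.witt hpF' hf hfc P2 (M := M) ?_ (U := U) (U2 := hM.sub U) (fun x => Iff.rfl) ?_ hfd hne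
    hdis hTI
  · intro g hg v
    have hg' : g ∈ (P1 : Subgroup H).map ι := by rw [← hP2]; exact hg
    obtain ⟨g, hg1, rfl⟩ := hg'
    obtain ⟨k, hk⟩ := P1.2 ⟨g, hg1⟩
    have hπg : π g ∈ Q := by
      change π g ∈ (Q : Subgroup S)
      rw [hQe]
      exact ⟨g, hg1, rfl⟩
    rw [I.comp]
    exact comm_of_induces I.ker_le I.ker_card hind (congrArg Subtype.val hk) (haQ _ hπg) v
  · intro g hg
    have hg' : g ∈ (P1 : Subgroup H).map ι := by rw [← hP2]; exact hg
    obtain ⟨g, hg1, rfl⟩ := hg'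
    have hπg : π g ∈ Q := by
      change π g ∈ (Q : Subgroup S)
      rw [hQe]
      exact ⟨g, hg1, rfl⟩
    have h1 := hQU g hπg
    rw [← I.comp] at h1
    exact h1

end Cfsg.Agent.H188.CY
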